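import Mathlib.AlgebraicGeometry.Morphisms.LocalFlatDescent
import Mathlib.AlgebraicGeometry.Fiber
import Groth.Agent.EGA43.SmoothEquidim.Main

/-!
# Smoothness of fibres and field-valued points
-/

set_option autoImplicit false
set_option backward.isDefEq.respectTransparency false

universe u

open CategoryTheory CategoryTheory.Limits AlgebraicGeometry TopologicalSpace

namespace Groth.Agent.Smoothing29

variable {X S : Scheme.{u}} (f : X ⟶ S)

/-- The base change to a field valued point is smooth iff the fibre is. -/
theorem smooth_fibre_iff {L : Type u} [Field L] (a : Spec (CommRingCat.of L) ⟶ S) (s : S)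
    (ha : a (IsLocalRing.closedPoint L) = s) :
    Smooth (f.fiberToSpecResidueField s) ↔ Smooth (pullback.snd f a) := by
  subst ha
  let φ := S.descResidueField (Scheme.stalkClosedPointTo a)
  have hφ : Spec.map φ ≫ S.fromSpecResidueField (a (IsLocalRing.closedPoint L)) = a :=
    Scheme.descResidueField_stalkClosedPointTo_fromSpecResidueField L S a
  let g := pullback.lift (pullback.fst f a) (pullback.snd f a ≫ Spec.map φ)
    (by rw [Category.assoc, hφ, pullback.condition] :
      pullback.fst f a ≫ f = (pullback.snd f a ≫ Spec.map φ) ≫ S.fromSpecResidueField _)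
  have sq : IsPullback g (pullback.snd f a)
      (f.fiberToSpecResidueField (a (IsLocalRing.closedPoint L))) (Spec.map φ) := by
    refine IsPullback.of_right ?_ (pullback.lift_snd _ _ _) (IsPullback.of_hasPullback _ _)
    rw [pullback.lift_fst, hφ]
    exact IsPullback.of_hasPullback f a
  have : Surjective (Spec.map φ) := ⟨fun y => ⟨IsLocalRing.closedPoint L, by
    have : Subsingleton (Spec (S.residueField (a (IsLocalRing.closedPoint L)))) :=
      inferInstanceAs (Subsingleton (PrimeSpectrum _))
    exact Subsingleton.elim _ _⟩⟩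
  refine ⟨fun h => MorphismProperty.of_isPullback (P := @Smooth) sq h, fun h => ?_⟩
  refine MorphismProperty.of_isPullback_of_descendsAlong
    (P := @Smooth) (Q := @Surjective ⊓ @Flat ⊓ @QuasiCompact) sq.flip ?_ h
  exact ⟨⟨inferInstance, inferInstance⟩, inferInstance⟩

/-- For a proper flat family the points with smooth fibre contain an open neighbourhood of any such. -/
theorem exists_open_smooth_fibres [IsProper f] [Flat f] [LocallyOfFinitePresentation f] (s : S)
    (h : Smooth (f.fiberToSpecResidueField s)) :
    ∃ U : S.Opens, s ∈ U ∧ ∀ y ∈ U, Smooth (f.fiberToSpecResidueField y) := by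
  refine ⟨⟨(f '' (f.smoothLocus : Set X)ᶜ)ᶜ,
    ((Scheme.Hom.isClosedMap f) _ f.smoothLocus.2.isClosed_compl).isOpen_compl⟩, ?_, fun y hy => ?_⟩
  · rintro ⟨x, hx, rfl⟩
    refine hx ?_
    have hfl : (f.stalkMap x).hom.Flat := Flat.stalkMap f x
    have hs : ((f.fiberToSpecResidueField (f x)).stalkMap (f.asFiber x)).hom.FormallySmooth := by
      have h1 : f.asFiber x ∈ (f.fiberToSpecResidueField (f x)).smoothLocus := by
        rw [Scheme.Hom.smoothLocus_eq_top]; trivial
      exact h1
    have h2 := SmoothLib.formallySmooth_stalkMap_of_fibre f (f x) (f.asFiber x)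
      (by rw [f.fiberι_asFiber]; exact hfl) hs
    rw [f.fiberι_asFiber] at h2
    exact h2
  · let U : S.Opens := ⟨(f '' (f.smoothLocus : Set X)ᶜ)ᶜ,
      ((Scheme.Hom.isClosedMap f) _ f.smoothLocus.2.isClosed_compl).isOpen_compl⟩
    have hle : f ⁻¹ᵁ U ≤ f.smoothLocus := fun x hx => by
      by_contra hx'
      exact hx ⟨x, hx', rfl⟩
    -- the fibre factors through the smooth part
    have : LocallyOfFinitePresentation (f.fiberToSpecResidueField y) :=
      MorphismProperty.pullback_snd (P := @LocallyOfFinitePresentation) _ _ ‹_›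
    refine (Scheme.Hom.smoothLocus_eq_top_iff (f := f.fiberToSpecResidueField y)).1 ?_
    rw [← top_le_iff]
    intro z _
    have hz : f (f.fiberι y z) = y := by
      rw [← Scheme.Hom.comp_apply]
      show (pullback.fst f (S.fromSpecResidueField y) ≫ f) z = y
      rw [pullback.condition, Scheme.Hom.comp_apply, Scheme.fromSpecResidueField_apply]
    obtain ⟨U', hU', hsm⟩ := SmoothLib.smooth_nhd_baseChange f (S.fromSpecResidueField y)
      (IsPullback.of_hasPullback _ _) z ((SmoothLib.smooth_nhd_iff f _).2
        (hle (show f (f.fiberι y z) ∈ U from hz.symm ▸ hy)))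
    exact SmoothLib.formallySmooth_stalkMap_of_nhd (f.fiberToSpecResidueField y) (hU := hsm) hU'

end Groth.Agent.Smoothing29
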