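import Groth.Agent.Smoothing29.Curve
import Groth.Agent.Smoothing29.Fibre
import Groth.Agent.H8Lim.NoetherianModel
import Mathlib.RingTheory.PowerSeries.Inverse
import Mathlib.RingTheory.PowerSeries.NoZeroDivisors
import Mathlib.AlgebraicGeometry.Morphisms.Smooth

/-!
# Geometric smoothing from a smoothing over power series
-/

set_option autoImplicit false
set_option backward.isDefEq.respectTransparency false

universe u

open CategoryTheory CategoryTheory.Limits AlgebraicGeometry TopologicalSpace IsLocalRing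

namespace Groth.Agent.Smoothing29

variable {k : Type u} [Field k]

/-- The image of the closed point of the fraction field is the generic point. -/
theorem SpecMap_closedPoint_eq_bot {R L : Type u} [CommRing R] [Field L] (φ : R →+* L) :
    (Spec.map (CommRingCat.ofHom φ)) (closedPoint L) =
      (⟨RingHom.ker φ, RingHom.ker_isPrime φ⟩ : PrimeSpectrum R) := by
  refine PrimeSpectrum.ext ?_
  show Ideal.comap φ (maximalIdeal L) = RingHom.ker φ
  rw [IsLocalRing.maximalIdeal_eq_bot]
  rfl

theorem exists_smoothing [IsAlgClosed k] {X P : Scheme.{u}} (pX : X ⟶ Spec (CommRingCat.of k))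
    (p : P ⟶ Spec (CommRingCat.of (PowerSeries k))) [Flat p] [IsProper p] [LocallyOfFinitePresentation p]
    (i : X ⟶ P)
    (hX : IsPullback i pX p (Spec.map (CommRingCat.ofHom (PowerSeries.constantCoeff (R := k)))))
    (hgen : Smooth (pullback.snd p
      (Spec.map (CommRingCat.ofHom (algebraMap (PowerSeries k) (FractionRing (PowerSeries k))))))) :
    ∃ (C : Scheme.{u}) (qC : C ⟶ Spec (CommRingCat.of k)) (c : Spec (CommRingCat.of k) ⟶ C)
      (_ : c ≫ qC = 𝟙 (Spec (CommRingCat.of k))) (_ : IsIntegral C) (_ : IsAffine C) (_ : Smooth qC)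
      (_ : topologicalKrullDim C = 1)
      (Y : Scheme.{u}) (π : Y ⟶ C) (_ : Flat π) (_ : IsProper π) (j : X ⟶ Y)
      (η : C) (_ : closure ({η} : Set C) = Set.univ),
      IsPullback j pX π c ∧ Smooth (π.fiberToSpecResidueField η) := by
  classical
  obtain ⟨s, X₀, f₀, g, _, _, _, sq⟩ := H8Lim.exists_noetherian_model_proper_flat p
  let T : Finset (PowerSeries k) := insert PowerSeries.X s
  let R : Subalgebra k (PowerSeries k) := Algebra.adjoin k (T : Set (PowerSeries k))
  have : Algebra.FiniteType k R := (R.fg_iff_finiteType).1 ⟨T, rfl⟩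
  have hle : ∀ x ∈ H8Lim.fgSub (PowerSeries k) s, x ∈ R := fun x hx => by
    induction hx using Algebra.adjoin_induction with
    | mem y hy => exact Algebra.subset_adjoin (Finset.mem_insert_of_mem hy)
    | algebraMap n => rw [eq_intCast]; exact R.intCast_mem n
    | add _ _ _ _ h₁ h₂ => exact R.add_mem h₁ h₂
    | mul _ _ _ _ h₁ h₂ => exact R.mul_mem h₁ h₂
  let ι₀ : (H8Lim.fgSub (PowerSeries k) s) →+* PowerSeries k :=
    { toFun := Subtype.val, map_one' := rfl, map_mul' := fun _ _ => rfl, map_zero' := rfl, map_add' := fun _ _ => rfl }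
  let ρ : (H8Lim.fgSub (PowerSeries k) s) →+* R :=
    RingHom.codRestrict ι₀ R (fun x => hle x x.2)
  let v : Spec (CommRingCat.of (PowerSeries k)) ⟶ Spec (CommRingCat.of R) :=
    Spec.map (CommRingCat.ofHom R.val.toRingHom)
  let r : Spec (CommRingCat.of R) ⟶ Spec (CommRingCat.of (H8Lim.fgSub (PowerSeries k) s)) :=
    Spec.map (CommRingCat.ofHom ρ)
  have hvr : v ≫ r = Spec.map (CommRingCat.ofHom ι₀) := by
    rw [← Spec.map_comp]; rfl
  replace sq : IsPullback g p f₀ (Spec.map (CommRingCat.ofHom ι₀)) := sq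
  let π₀ := pullback.snd f₀ r
  let g' : P ⟶ pullback f₀ r := pullback.lift g (p ≫ v) (by rw [Category.assoc, hvr, sq.w])
  have sq' : IsPullback g' p π₀ v := by
    refine IsPullback.of_right ?_ (pullback.lift_snd _ _ _) (IsPullback.of_hasPullback f₀ r)
    rw [pullback.lift_fst, hvr]
    exact sq
  have : IsProper π₀ := inferInstance
  have : Flat π₀ := inferInstance
  have : LocallyOfFinitePresentation π₀ := inferInstance
  -- the generic fibre of the model is smooth
  let L := FractionRing (PowerSeries k)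
  let a := Spec.map (CommRingCat.ofHom (algebraMap (PowerSeries k) L))
  let η₀ : Spec (CommRingCat.of R) := (a ≫ v) (closedPoint L)
  have hη₀ : η₀ = (⟨⊥, Ideal.isPrime_bot⟩ : PrimeSpectrum R) := by
    show (a ≫ v) (closedPoint L) = _
    rw [← Spec.map_comp, ← CommRingCat.ofHom_comp, SpecMap_closedPoint_eq_bot]
    refine PrimeSpectrum.ext ?_
    exact (RingHom.injective_iff_ker_eq_bot _).1
      ((IsFractionRing.injective (PowerSeries k) L).comp Subtype.val_injective)
  have hs : Smooth (π₀.fiberToSpecResidueField η₀) := by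
    rw [smooth_fibre_iff π₀ (a ≫ v) η₀ rfl]
    have sqa : IsPullback (pullback.fst p a ≫ g') (pullback.snd p a) π₀ (a ≫ v) :=
      (IsPullback.of_hasPullback p a).paste_horiz sq'
    rw [← sqa.isoPullback_inv_snd]
    infer_instance
  obtain ⟨U, hU, hUs⟩ := exists_open_smooth_fibres π₀ η₀ hs
  obtain ⟨_, ⟨_, ⟨h, rfl⟩, rfl⟩, hηh, hhU⟩ := PrimeSpectrum.isBasis_basic_opens.exists_subset_of_mem_open hU U.2
  have h0 : h ≠ 0 := by
    intro hz
    have : h ∉ (η₀ : PrimeSpectrum R).asIdeal := hηh
    exact this (hz ▸ Ideal.zero_mem _)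
  let ε : R →ₐ[k] k :=
    AlgHom.mk ((PowerSeries.constantCoeff (R := k)).comp R.val.toRingHom) (fun c => by
      show PowerSeries.constantCoeff (algebraMap k (PowerSeries k) c) = c
      simp [PowerSeries.algebraMap_apply])
  have hne : ¬ IsField R := fun hf => by
    let Xr : R := ⟨PowerSeries.X, Algebra.subset_adjoin (Finset.mem_insert_self _ _)⟩
    obtain ⟨y, hy⟩ := hf.mul_inv_cancel (a := Xr) (fun hh => PowerSeries.X_ne_zero (congrArg Subtype.val hh))
    have h1 := congrArg (fun z : R => PowerSeries.constantCoeff (z : PowerSeries k)) hy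
    simp [Xr] at h1
  obtain ⟨B, _, _, _, _, φ, δ, hdim, hδ, hφh⟩ := exists_curve (k := k) ε h h0 hne
  let qC : Spec (CommRingCat.of B) ⟶ Spec (CommRingCat.of k) := Spec.map (CommRingCat.ofHom (algebraMap k B))
  let c : Spec (CommRingCat.of k) ⟶ Spec (CommRingCat.of B) := Spec.map (CommRingCat.ofHom δ.toRingHom)
  let m : Spec (CommRingCat.of B) ⟶ Spec (CommRingCat.of R) := Spec.map (CommRingCat.ofHom φ.toRingHom)
  have hcm : c ≫ m = Spec.map (CommRingCat.ofHom (PowerSeries.constantCoeff (R := k))) ≫ v := by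
    rw [← Spec.map_comp, ← Spec.map_comp]
    congr 1
    ext x
    exact DFunLike.congr_fun hδ x
  let π := pullback.snd π₀ m
  have sqX : IsPullback (i ≫ g') pX π₀ (c ≫ m) := by rw [hcm]; exact hX.paste_horiz sq'
  let j : X ⟶ pullback π₀ m := pullback.lift (i ≫ g') (pX ≫ c) (by rw [sqX.w, Category.assoc])
  have hsm : Smooth qC := by
    rw [HasRingHomProperty.Spec_iff (P := @Smooth)]
    exact RingHom.smooth_algebraMap.2 ‹Algebra.Smooth k B›
  refine ⟨Spec (CommRingCat.of B), qC, c, ?_, inferInstance, inferInstance, hsm, ?_,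
    pullback π₀ m, π, inferInstance, inferInstance, j, genericPoint (Spec (CommRingCat.of B)),
    (genericPoint_spec (Spec (CommRingCat.of B))).def, ?_, ?_⟩
  · rw [← Spec.map_comp, ← Spec.map_id]
    congr 1
    ext x
    exact δ.commutes x
  · exact (PrimeSpectrum.topologicalKrullDim_eq_ringKrullDim B).trans hdim
  · refine IsPullback.of_right ?_ (pullback.lift_snd _ _ _) (IsPullback.of_hasPullback π₀ m)
    rw [pullback.lift_fst]
    exact sqX
  · let K := FractionRing B
    let b := Spec.map (CommRingCat.ofHom (algebraMap B K))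
    have hb : b (closedPoint K) = genericPoint (Spec (CommRingCat.of B)) := by
      rw [SpecMap_closedPoint_eq_bot]
      refine (genericPoint_eq_bot_of_affine (CommRingCat.of B)).trans ?_ |>.symm
      refine PrimeSpectrum.ext ?_
      exact ((RingHom.injective_iff_ker_eq_bot _).1 (IsFractionRing.injective B K)).symm
    rw [smooth_fibre_iff π b _ hb]
    have hbm : (b ≫ m) (closedPoint K) ∈ U := by
      refine hhU ?_
      rw [← Spec.map_comp, ← CommRingCat.ofHom_comp, SpecMap_closedPoint_eq_bot]
      show h ∉ RingHom.ker _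
      rw [RingHom.mem_ker]
      exact fun hh => hφh (IsFractionRing.injective B K (hh.trans (map_zero _).symm))
    have h1 := (smooth_fibre_iff π₀ (b ≫ m) _ rfl).1 (hUs _ hbm)
    have sqb : IsPullback (pullback.fst π b ≫ pullback.fst π₀ m) (pullback.snd π b) π₀ (b ≫ m) :=
      (IsPullback.of_hasPullback _ _).paste_horiz (IsPullback.of_hasPullback π₀ m)
    rw [← sqb.isoPullback_hom_snd]
    infer_instance

end Groth.Agent.Smoothing29
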