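import Groth.Agent.Smoothing29.Expand
import Groth.Agent.Smoothing29.Fibre
import Groth.Agent.CurveRR24.VeryAmple
import Groth.Agent.VarietyLib.SmoothStalk
import Mathlib.AlgebraicGeometry.Morphisms.Finite

/-!
# The formal neighbourhood of a rational point of a smooth curve
-/

set_option autoImplicit false
set_option backward.isDefEq.respectTransparency false

universe u

open CategoryTheory CategoryTheory.Limits AlgebraicGeometry TopologicalSpace IsLocalRing

namespace Groth.Agent.Smoothing29

variable {k : Type u} [Field k]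

theorem exists_powerSeries_point {C : Scheme.{u}} (q : C ⟶ Spec (CommRingCat.of k)) [IsIntegral C]
    [Smooth q] (hdim : topologicalKrullDim C = 1) (c : Spec (CommRingCat.of k) ⟶ C)
    (hc : c ≫ q = 𝟙 _) :
    ∃ γ : Spec (CommRingCat.of (PowerSeries k)) ⟶ C,
      Spec.map (CommRingCat.ofHom (PowerSeries.constantCoeff (R := k))) ≫ γ = c ∧
      (Spec.map (CommRingCat.ofHom (algebraMap (PowerSeries k) (FractionRing (PowerSeries k)))) ≫ γ)
        (closedPoint (FractionRing (PowerSeries k))) = genericPoint C := by
  have : IsLocallyNoetherian C := LocallyOfFiniteType.isLocallyNoetherian q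
  let x := c (closedPoint k)
  obtain ⟨ε, hεc, hloc, hφ⟩ : ∃ (ε : C.presheaf.stalk x ⟶ CommRingCat.of k),
      Spec.map ε ≫ C.fromSpecStalk x = c ∧ ∃ _ : IsLocalHom ε.hom,
        Spec.map (C.descResidueField ε) ≫ C.fromSpecResidueField x = c :=
    ⟨Scheme.stalkClosedPointTo c, Scheme.Spec_stalkClosedPointTo_fromSpecStalk c, inferInstance,
      Scheme.descResidueField_stalkClosedPointTo_fromSpecResidueField k C c⟩
  obtain ⟨j, hj⟩ : ∃ j : CommRingCat.of k ⟶ C.presheaf.stalk x, Spec.map j = C.fromSpecStalk x ≫ q :=
    ⟨Spec.preimage _, Spec.map_preimage _⟩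
  have hjε : j ≫ ε = 𝟙 _ := Spec.map_injective (by rw [Spec.map_comp, hj, reassoc_of% hεc, hc, Spec.map_id])
  have hsurj : Function.Surjective ε := fun a => ⟨j a, ConcreteCategory.congr_hom hjε a⟩
  -- the point is closed
  have hx : IsClosed ({x} : Set C) := by
    have : JacobsonSpace C := LocallyOfFiniteType.jacobsonSpace q
    rw [isClosed_singleton_iff_locallyOfFiniteType]
    let φ := C.descResidueField ε
    have hφ : Spec.map φ ≫ C.fromSpecResidueField x = c := hφ
    have : IsIso φ := by
      rw [ConcreteCategory.isIso_iff_bijective]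
      refine ⟨φ.hom.injective, fun a => ?_⟩
      obtain ⟨b, rfl⟩ := hsurj a
      exact ⟨C.residue x b, ConcreteCategory.congr_hom (C.residue_descResidueField ε) b⟩
    have : LocallyOfFiniteType c := by
      have : LocallyOfFiniteType (c ≫ q) := by rw [hc]; infer_instance
      exact locallyOfFiniteType_of_comp c q
    rw [show C.fromSpecResidueField x = inv (Spec.map φ) ≫ c from ((IsIso.inv_comp_eq _).2 hφ.symm).symm]
    infer_instance
  have := VarietyLib.isRegularLocalRing_stalk_of_smooth k C q x
  have : IsDiscreteValuationRing (C.presheaf.stalk x) :=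
    IsLocalRing.finrank_CotangentSpace_eq_one_iff.1 (by
      have h := (IsRegularLocalRing.iff_finrank_cotangentSpace (C.presheaf.stalk x)).1 inferInstance
      rw [CurveRR24.stalk_dim_eq_one hdim hx] at h
      exact_mod_cast h)
  let εR : C.presheaf.stalk x →+* k := ε.hom
  let jR : k →+* C.presheaf.stalk x := j.hom
  have hεj : εR.comp jR = RingHom.id k := RingHom.ext fun a => ConcreteCategory.congr_hom hjε a
  have hsurj' : Function.Surjective εR := hsurj
  have hker : RingHom.ker εR = maximalIdeal (C.presheaf.stalk x) :=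
    IsLocalRing.eq_maximalIdeal (RingHom.ker_isMaximal_of_surjective εR hsurj')
  obtain ⟨ψ, hψi, hψc, -⟩ := @exists_powerSeries_hom k (C.presheaf.stalk x) _ _ jR.toAlgebra _ _ εR hεj hker
  refine ⟨Spec.map (CommRingCat.ofHom ψ) ≫ C.fromSpecStalk x, ?_, ?_⟩
  · rw [← Spec.map_comp_assoc, ← CommRingCat.ofHom_comp, hψc]
    exact hεc
  · rw [← Category.assoc, ← Spec.map_comp, ← CommRingCat.ofHom_comp, Scheme.Hom.comp_apply]
    let p : Spec (C.presheaf.stalk x) := Spec.map (CommRingCat.ofHom
      ((algebraMap (PowerSeries k) (FractionRing (PowerSeries k))).comp ψ)) (closedPoint _)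
    have hp : p = (⟨⊥, Ideal.isPrime_bot⟩ : PrimeSpectrum (C.presheaf.stalk x)) := by
      refine PrimeSpectrum.ext ?_
      show Ideal.comap ((algebraMap (PowerSeries k) (FractionRing (PowerSeries k))).comp ψ)
        (maximalIdeal (FractionRing (PowerSeries k))) = ⊥
      rw [IsLocalRing.maximalIdeal_eq_bot, ← RingHom.ker_eq_comap_bot, ← RingHom.injective_iff_ker_eq_bot]
      exact (IsFractionRing.injective (PowerSeries k) (FractionRing (PowerSeries k))).comp hψi
    show C.fromSpecStalk x p = genericPoint C
    obtain ⟨r, hr⟩ : genericPoint C ∈ Set.range (C.fromSpecStalk x) := by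
      rw [Scheme.range_fromSpecStalk]; exact genericPoint_specializes x
    have h1 : p ⤳ r := by
      rw [hp]
      exact (PrimeSpectrum.le_iff_specializes _ _).1 (bot_le (a := PrimeSpectrum.asIdeal r))
    have h2 := h1.map (C.fromSpecStalk x).continuous
    rw [hr] at h2
    exact (h2.antisymm (genericPoint_specializes _)).eq

end Groth.Agent.Smoothing29
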