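import Groth.Agent.DimLib.Algebra
import Groth.Agent.EGA43.SmoothNorm.Ring
import Mathlib.RingTheory.Ideal.KrullsHeightTheorem

/-!
# A smooth curve through a rational point meeting a given open
-/

set_option autoImplicit false
set_option backward.isDefEq.respectTransparency false

universe u

open IsLocalRing

namespace Groth.Agent.Smoothing29

variable {k : Type u} [Field k] {R : Type u} [CommRing R] [IsDomain R] [Algebra k R]
  [Algebra.FiniteType k R]

include k in
/-- If every nonzero prime inside a maximal ideal contains `h ≠ 0`, that ideal has height at most one. -/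
theorem height_le_one_of_forall_mem (m : Ideal R) [m.IsMaximal] (h : R) (h0 : h ≠ 0)
    (H : ∀ q : Ideal R, q.IsPrime → q ≤ m → q ≠ ⊥ → h ∈ q) : m.height ≤ 1 := by
  classical
  have : IsNoetherianRing R := Algebra.FiniteType.isNoetherianRing k R
  by_contra hlt
  push Not at hlt
  let M := (Ideal.span {h}).minimalPrimes
  have hfin : M.Finite := Ideal.finite_minimalPrimes_of_isNoetherianRing R _
  have hM : ∀ p ∈ M, ¬ m ≤ p := by
    intro p hp hmp
    have hpm : p = m := (Ideal.IsMaximal.eq_of_le ‹m.IsMaximal› hp.1.1.ne_top hmp).symm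
    exact absurd (hpm ▸ Ideal.height_le_one_of_isPrincipal_of_mem_minimalPrimes (Ideal.span {h}) p hp)
      (not_le.2 hlt)
  have hne : ¬ ((m : Set R) ⊆ ⋃ p ∈ (hfin.toFinset : Set (Ideal R)), (p : Set R)) := by
    rw [Ideal.subset_union_prime (⊥ : Ideal R) ⊥ (fun p hp _ _ => (hfin.mem_toFinset.1 hp).1.1)]
    rintro ⟨p, hp, hmp⟩
    exact hM p (hfin.mem_toFinset.1 hp) hmp
  obtain ⟨x, hxm, hxn⟩ := Set.not_subset.1 hne
  obtain ⟨q, hq, hqm⟩ := Ideal.exists_minimalPrimes_le (show Ideal.span {x} ≤ m by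
    rwa [Ideal.span_singleton_le_iff_mem])
  have hxq : x ∈ q := hq.1.2 (Ideal.mem_span_singleton_self x)
  have hqh : q.height ≤ 1 := Ideal.height_le_one_of_isPrincipal_of_mem_minimalPrimes _ _ hq
  have hq0 : q ≠ ⊥ := by
    intro hb
    have hx0 : x = 0 := by simpa [hb] using hxq
    obtain ⟨p, hp, -⟩ := Ideal.exists_minimalPrimes_le (show Ideal.span {h} ≤ m by
      rw [Ideal.span_singleton_le_iff_mem]
      refine H m inferInstance le_rfl fun hb' => ?_
      rw [hb', Ideal.height_bot] at hlt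
      exact absurd hlt (by norm_num))
    exact hxn (Set.mem_iUnion₂.2 ⟨p, hfin.mem_toFinset.2 hp, hx0 ▸ p.zero_mem⟩)
  have := hq.1.1
  have hhq : h ∈ q := H q hq.1.1 hqm hq0
  obtain ⟨p, hp, hpq⟩ := Ideal.exists_minimalPrimes_le (show Ideal.span {h} ≤ q by
    rwa [Ideal.span_singleton_le_iff_mem])
  have : p.IsPrime := hp.1.1
  have : q.IsPrime := hq.1.1
  have hp0 : p ≠ ⊥ := fun hb => h0 (by simpa [hb] using hp.1.2 (Ideal.mem_span_singleton_self h))
  have hpq' : p = q := by
    by_contra hne'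
    have h1 : p.height < q.height := Ideal.height_strict_mono_of_isPrime_of_isPrime (lt_of_le_of_ne hpq hne')
    have h2 : (0 : ℕ∞) < p.height := pos_iff_ne_zero.2 fun hh =>
      hp0 ((Ideal.height_eq_zero_iff_eq_bot (I := p)).1 hh)
    have h3 : (1 : ℕ∞) ≤ p.height := Order.one_le_iff_pos.2 h2
    exact absurd (lt_of_le_of_lt h3 h1) (not_lt.2 hqh)
  exact hxn (Set.mem_iUnion₂.2 ⟨p, hfin.mem_toFinset.2 hp, hpq' ▸ hxq⟩)

/-- A smooth curve through a rational point `ε`, avoiding the zero set of `h` generically. -/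
theorem exists_curve [IsAlgClosed k] (ε : R →ₐ[k] k) (h : R) (h0 : h ≠ 0) (hne : ¬ IsField R) :
    ∃ (B : Type u) (_ : CommRing B) (_ : IsDomain B) (_ : Algebra k B) (_ : Algebra.Smooth k B)
      (φ : R →ₐ[k] B) (δ : B →ₐ[k] k), ringKrullDim B = 1 ∧ δ.comp φ = ε ∧ φ h ≠ 0 := by
  classical
  have : IsNoetherianRing R := Algebra.FiniteType.isNoetherianRing k R
  have hεs : Function.Surjective ε.toRingHom := fun c => ⟨algebraMap k R c, ε.commutes c⟩
  let m : Ideal R := RingHom.ker ε.toRingHom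
  have hm : m.IsMaximal := RingHom.ker_isMaximal_of_surjective _ hεs
  obtain ⟨t, htm, ht0⟩ : ∃ t ∈ m, t ≠ 0 :=
    Submodule.exists_mem_ne_zero_of_ne_bot fun hb => hne (Ring.isField_iff_maximal_bot.2 (hb ▸ hm))
  let g := h * t
  have hg0 : g ≠ 0 := mul_ne_zero h0 ht0
  have hgm : g ∈ m := m.mul_mem_left h htm
  let Sp : Set (Ideal R) := {p | p.IsPrime ∧ p ≤ m ∧ g ∉ p}
  have hSne : Sp.Nonempty := ⟨⊥, Ideal.isPrime_bot, bot_le, by simpa using hg0⟩
  obtain ⟨p, ⟨hp, hpm, hgp⟩, hmax⟩ := set_has_maximal_iff_noetherian.2 inferInstance Sp hSne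
  have := hp
  let D := R ⧸ p
  let md : Ideal D := m.map (Ideal.Quotient.mk p)
  have hcm : md.comap (Ideal.Quotient.mk p) = m := by
    rw [Ideal.comap_map_of_surjective _ Ideal.Quotient.mk_surjective, ← RingHom.ker_eq_comap_bot,
      Ideal.mk_ker, sup_eq_left]
    exact hpm
  have hmd : md.IsMaximal :=
    (Ideal.map_eq_top_or_isMaximal_of_surjective _ Ideal.Quotient.mk_surjective hm).resolve_left
      fun ht => hm.ne_top (by rw [← hcm, show md = ⊤ from ht, Ideal.comap_top])
  have hgD : Ideal.Quotient.mk p g ≠ 0 := fun hh => hgp (Ideal.Quotient.eq_zero_iff_mem.1 hh)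
  have hh1 : md.height ≤ 1 := height_le_one_of_forall_mem (k := k) md _ hgD fun q hq hqm hq0 => by
    by_contra hgq
    have hlt : p < q.comap (Ideal.Quotient.mk p) := by
      refine lt_of_le_of_ne (fun x hx => ?_) fun he => hq0 ?_
      · rw [Ideal.mem_comap, Ideal.Quotient.eq_zero_iff_mem.2 hx]; exact q.zero_mem
      · rw [← Ideal.map_comap_of_surjective _ Ideal.Quotient.mk_surjective q, ← he, Ideal.map_quotient_self]
    exact hmax _ ⟨Ideal.IsPrime.comap _, (Ideal.comap_mono hqm).trans hcm.le, fun hh => hgq hh⟩ hlt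
  have hmd0 : md ≠ ⊥ := fun hb => hgD (by
    have h1 : Ideal.Quotient.mk p g ∈ md := Ideal.mem_map_of_mem _ hgm
    rw [hb] at h1
    simpa using h1)
  have hdimD : ringKrullDim D = 1 := by
    rw [← DimLib.height_eq_of_isMaximal (k := k) md]
    have h2 : (1 : ℕ∞) ≤ md.height :=
      Order.one_le_iff_pos.2 (pos_iff_ne_zero.2 fun hh => hmd0 ((Ideal.height_eq_zero_iff_eq_bot (I := md)).1 hh))
    exact_mod_cast le_antisymm hh1 h2
  have : Ring.KrullDimLE 1 D := Ring.krullDimLE_iff.2 hdimD.le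
  obtain ⟨hfin, hsm⟩ := EGA43.SmoothNorm.smooth_integralClosure k D (FractionRing D)
  let B := integralClosure D (FractionRing D)
  have hinj : Function.Injective (algebraMap D B) := fun a b hab =>
    IsFractionRing.injective D (FractionRing D) (congrArg Subtype.val hab)
  have : IsScalarTower k D B := IsScalarTower.of_algebraMap_eq fun x =>
    Subtype.ext (IsScalarTower.algebraMap_apply k D (FractionRing D) x)
  let φ : R →ₐ[k] B := (IsScalarTower.toAlgHom k D B).comp (Ideal.Quotient.mkₐ k p)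
  obtain ⟨n, hn, hnm⟩ := Ideal.exists_ideal_over_maximal_of_isIntegral (S := B) md
    (by rw [(RingHom.injective_iff_ker_eq_bot _).1 hinj]; exact bot_le)
  have := hn
  have : Algebra.FiniteType k B := .trans (S := D) inferInstance inferInstance
  letI : Field (B ⧸ n) := Ideal.Quotient.field n
  have : Module.Finite k (B ⧸ n) :=
    finite_of_finite_type_of_isJacobsonRing k (B ⧸ n)
  have hbij : Function.Bijective (Algebra.ofId k (B ⧸ n)) :=
    IsAlgClosed.algebraMap_bijective_of_isIntegral (k := k) (K := B ⧸ n)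
  let δ : B →ₐ[k] k :=
    ((AlgEquiv.ofBijective (Algebra.ofId k (B ⧸ n)) hbij).symm.toAlgHom).comp
        (Ideal.Quotient.mkₐ k n)
  refine ⟨B, inferInstance, inferInstance, inferInstance, hsm, φ, δ, ?_, AlgHom.ext fun x => ?_, ?_⟩
  · rw [← DimLib.ringKrullDim_eq_of_isIntegral (R := D) (S := B) hinj, hdimD]
  · have hx : x - algebraMap k R (ε x) ∈ m := by
      show ε.toRingHom _ = 0
      simp
    have h3 : φ (x - algebraMap k R (ε x)) ∈ n := by
      have h4 : Ideal.Quotient.mk p (x - algebraMap k R (ε x)) ∈ n.comap (algebraMap D B) :=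
        hnm.symm ▸ Ideal.mem_map_of_mem _ hx
      exact h4
    have h5 : δ (φ (x - algebraMap k R (ε x))) = 0 := by
      show (AlgEquiv.ofBijective _ hbij).symm (Ideal.Quotient.mk n _) = 0
      rw [Ideal.Quotient.eq_zero_iff_mem.2 h3, map_zero]
    rwa [map_sub, map_sub, AlgHom.commutes, AlgHom.commutes, sub_eq_zero] at h5
  · intro hh
    have h6 : Ideal.Quotient.mk p h = 0 := hinj (hh.trans (map_zero _).symm)
    exact hgp (Ideal.mul_mem_right t p (Ideal.Quotient.eq_zero_iff_mem.1 h6))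

end Groth.Agent.Smoothing29
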