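import Mathlib.RingTheory.PowerSeries.Trunc
import Mathlib.RingTheory.DiscreteValuationRing.Basic
import Mathlib.RingTheory.Filtration
import Mathlib.Algebra.Polynomial.Div

/-!
# Expansion in a uniformizer
-/

set_option autoImplicit false

universe u

open PowerSeries IsLocalRing

namespace Groth.Agent.Smoothing29

variable {k O : Type u} [Field k] [CommRing O] [Algebra k O]

/-- A rational point on a discrete valuation ring gives an embedding into power series. -/
theorem exists_powerSeries_hom [IsDomain O] [IsDiscreteValuationRing O] (ε : O →+* k)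
    (hε : ε.comp (algebraMap k O) = RingHom.id k) (hker : RingHom.ker ε = maximalIdeal O) :
    ∃ ψ : O →+* PowerSeries k, Function.Injective ψ ∧
      (PowerSeries.constantCoeff (R := k)).comp ψ = ε ∧ ψ.comp (algebraMap k O) = PowerSeries.C (R := k) := by
  obtain ⟨t, ht⟩ := IsDiscreteValuationRing.exists_irreducible O
  have hm := ht.maximalIdeal_eq
  have ht0 : t ≠ 0 := ht.ne_zero
  let ι := algebraMap k O
  have hει : ∀ c, ε (ι c) = c := fun c => RingHom.congr_fun hε c
  have hdvd : ∀ a : O, t ∣ a - ι (ε a) := fun a => by
    rw [← Ideal.mem_span_singleton, ← hm, ← hker, RingHom.mem_ker, map_sub, hει, sub_self]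
  choose rest hrest using hdvd
  let co : O → ℕ → k := fun a n => ε (rest^[n] a)
  -- the series is characterised by its truncations
  let P : O → PowerSeries k → Prop := fun a S =>
    ∀ n, t ^ n ∣ a - Polynomial.aeval t (trunc n S)
  have hP : ∀ a, P a (mk (co a)) := by
    have h : ∀ n a, a = Polynomial.aeval t (trunc n (mk (co a))) + t ^ n * rest^[n] a := by
      intro n
      induction n with
      | zero => intro a; simp
      | succ n ih =>
        intro a
        rw [trunc_succ, map_add, Polynomial.aeval_monomial, coeff_mk, Function.iterate_succ_apply']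
        have h1 := hrest (rest^[n] a)
        have h2 := ih a
        rw [pow_succ]
        linear_combination h2 + t ^ n * h1
    exact fun a n => ⟨rest^[n] a, sub_eq_iff_eq_add'.2 (h n a)⟩
  have huniq : ∀ a S T, P a S → P a T → S = T := by
    intro a S T hS hT
    ext n
    induction n using Nat.strong_induction_on with
    | _ n ih =>
      have h1 := dvd_sub (hT (n + 1)) (hS (n + 1))
      have htr : trunc n S = trunc n T := by
        ext i
        rw [coeff_trunc, coeff_trunc]
        split_ifs with hi
        · exact ih i hi
        · rfl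
      rw [sub_sub_sub_cancel_left, trunc_succ, trunc_succ, htr, map_add, map_add,
        add_sub_add_left_eq_sub, Polynomial.aeval_monomial, Polynomial.aeval_monomial, ← sub_mul,
        ← map_sub, pow_succ', mul_comm (algebraMap k O _)] at h1
      obtain ⟨c, hc⟩ := h1
      rw [mul_comm t, mul_assoc] at hc
      have h3 := congrArg ε (mul_left_cancel₀ (pow_ne_zero n ht0) hc)
      have htε : ε t = 0 := by
        rw [← RingHom.mem_ker, hker, hm]; exact Ideal.mem_span_singleton_self t
      rw [map_mul, htε, zero_mul, hει, sub_eq_zero] at h3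
      exact h3
  have hC : ∀ c, P (ι c) (C (R := k) c) := fun c n => by
    cases n with
    | zero => simp
    | succ n => rw [trunc_C, Polynomial.aeval_C, sub_self]; exact dvd_zero _
  let ψ : O →+* PowerSeries k :=
    { toFun := fun a => mk (co a)
      map_one' := huniq 1 _ _ (hP 1) (by simpa [ι] using hC 1)
      map_zero' := huniq 0 _ _ (hP 0) fun n => by simp
      map_add' := fun a b => huniq _ _ _ (hP _) fun n => by
        rw [map_add, map_add, add_sub_add_comm]
        exact dvd_add (hP a n) (hP b n)
      map_mul' := fun a b => huniq _ _ _ (hP _) fun n => by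
        obtain ⟨c₁, h₁⟩ := hP a n
        obtain ⟨c₂, h₂⟩ := hP b n
        obtain ⟨d, hd⟩ : (Polynomial.X : Polynomial k) ^ n ∣
            trunc n (mk (co a)) * trunc n (mk (co b)) - trunc n (mk (co a) * mk (co b)) := by
          refine Polynomial.X_pow_dvd_iff.2 fun i hi => ?_
          rw [Polynomial.coeff_sub, coeff_trunc, if_pos hi,
            coeff_mul_eq_coeff_trunc_mul_trunc _ _ hi, ← Polynomial.coeff_coe, Polynomial.coe_mul,
            sub_self]
        have h3 := congrArg (Polynomial.aeval t) hd
        simp only [map_sub, map_mul, map_pow, Polynomial.aeval_X] at h3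
        exact ⟨c₁ * b + Polynomial.aeval t (trunc n (mk (co a))) * c₂ + Polynomial.aeval t d, by
          linear_combination b * h₁ + Polynomial.aeval t (trunc n (mk (co a))) * h₂ + h3⟩ }
  refine ⟨ψ, (injective_iff_map_eq_zero ψ).2 fun a ha => ?_, RingHom.ext fun a => ?_,
    RingHom.ext fun c => huniq _ _ _ (hP _) (hC c)⟩
  · have h : ∀ n, a ∈ maximalIdeal O ^ n := fun n => by
      rw [hm, Ideal.span_singleton_pow, Ideal.mem_span_singleton]
      have h' := hP a n
      rw [show mk (co a) = 0 from ha] at h'
      simpa using h'
    have h' : a ∈ (⨅ n, maximalIdeal O ^ n) := (Submodule.mem_iInf _).2 h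
    rw [Ideal.iInf_pow_eq_bot_of_isLocalRing _ (maximalIdeal.isMaximal O).ne_top] at h'
    exact h'
  · show constantCoeff (mk (co a)) = ε a
    simp [co]

end Groth.Agent.Smoothing29
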